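import Cfsg.Agent.Characters.Classes
import Mathlib.LinearAlgebra.Matrix.Kronecker
import Mathlib.LinearAlgebra.Trace

/-!
# The Frobenius–Schur indicator

For an irreducible character `χ` of a finite group, `(1/|G|) ∑ χ (g * g)` is `0` when `χ` is not
real valued and `1` or `-1` when it is.
-/

set_option autoImplicit false
set_option linter.style.haveILetI false

namespace CfsgLib.FSIndicator

open Matrix Kronecker
open scoped ComplexConjugate

universe u

variable {G : Type u} [Group G] [Fintype G]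

/-- The Frobenius–Schur indicator of a function on a group. -/
noncomputable def nu (χ : G → ℂ) : ℂ := (Nat.card G : ℂ)⁻¹ * ∑ g : G, χ (g * g)

/-- The exchange of the two tensor factors, as a matrix. -/
noncomputable def swapMatrix (n : ℕ) : Matrix (Fin n × Fin n) (Fin n × Fin n) ℂ :=
  Matrix.of fun a b => if a = (b.2, b.1) then 1 else 0

theorem swapMatrix_mul {n : ℕ} (X : Matrix (Fin n × Fin n) (Fin n × Fin n) ℂ)
    (a b : Fin n × Fin n) : (swapMatrix n * X) a b = X (a.2, a.1) b := by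
  rw [Matrix.mul_apply, Finset.sum_eq_single (a.2, a.1)]
  · simp [swapMatrix]
  · intro c _ hc
    simp only [swapMatrix, Matrix.of_apply]
    rw [if_neg, zero_mul]
    intro h
    exact hc (by rw [h])
  · simp

theorem mul_swapMatrix {n : ℕ} (X : Matrix (Fin n × Fin n) (Fin n × Fin n) ℂ)
    (a b : Fin n × Fin n) : (X * swapMatrix n) a b = X a (b.2, b.1) := by
  rw [Matrix.mul_apply, Finset.sum_eq_single (b.2, b.1)]
  · simp [swapMatrix]
  · intro c _ hc
    simp only [swapMatrix, Matrix.of_apply]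
    rw [if_neg hc, mul_zero]
  · simp

theorem swapMatrix_mul_self (n : ℕ) : swapMatrix n * swapMatrix n = 1 := by
  ext ⟨i, j⟩ ⟨k, l⟩
  rw [swapMatrix_mul]
  simp [swapMatrix, Matrix.one_apply, and_comm]

theorem swapMatrix_comm {n : ℕ} (A : Matrix (Fin n) (Fin n) ℂ) :
    swapMatrix n * (A ⊗ₖ A) = (A ⊗ₖ A) * swapMatrix n := by
  ext ⟨i, j⟩ ⟨k, l⟩
  rw [swapMatrix_mul, mul_swapMatrix]
  simp [Matrix.kroneckerMap_apply, mul_comm]

theorem trace_swapMatrix_mul {n : ℕ} (A : Matrix (Fin n) (Fin n) ℂ) :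
    (swapMatrix n * (A ⊗ₖ A)).trace = (A * A).trace := by
  simp only [Matrix.trace, Matrix.diag, swapMatrix_mul]
  simp only [Fintype.sum_prod_type, Matrix.kroneckerMap_apply, Matrix.mul_apply]
  exact Finset.sum_congr rfl fun i _ => Finset.sum_congr rfl fun j _ => mul_comm _ _

/-- An idempotent of trace one compresses every matrix to a scalar multiple of itself. -/
theorem mul_mul_eq_smul_of_trace_one {ι : Type*} [Fintype ι] [DecidableEq ι] {P : Matrix ι ι ℂ}
    (hP : P * P = P) (htr : P.trace = 1) (X : Matrix ι ι ℂ) :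
    P * X * P = (X * P).trace • P := by
  set e : (ι → ℂ) →ₗ[ℂ] (ι → ℂ) := Matrix.toLin' P with he
  have hidem : IsIdempotentElem e := by
    show e * e = e
    rw [he, Module.End.mul_eq_comp, ← Matrix.toLin'_mul, hP]
  have hrange : Module.finrank ℂ (LinearMap.range e) = 1 := by
    have hproj : LinearMap.IsProj (LinearMap.range e) e := by
      refine ⟨fun x => LinearMap.mem_range_self e x, ?_⟩
      rintro x ⟨y, rfl⟩
      exact congrArg (fun f : (ι → ℂ) →ₗ[ℂ] (ι → ℂ) => f y) hidem.eq
    have h := hproj.trace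
    rw [he, Matrix.trace_toLin'_eq, htr] at h
    exact_mod_cast h.symm
  obtain ⟨v, -, hv⟩ := finrank_eq_one_iff'.1 hrange
  obtain ⟨c, hc⟩ := hv ⟨e (Matrix.toLin' X (v : ι → ℂ)), LinearMap.mem_range_self e _⟩
  have hc' : c • (v : ι → ℂ) = e (Matrix.toLin' X (v : ι → ℂ)) := congrArg Subtype.val hc
  have hPXP : P * X * P = c • P := by
    apply (Matrix.toLin' (R := ℂ) (n := ι) (m := ι)).injective
    rw [map_smul, Matrix.toLin'_mul, Matrix.toLin'_mul]
    refine LinearMap.ext fun x => ?_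
    obtain ⟨a, ha⟩ := hv ⟨e x, LinearMap.mem_range_self e x⟩
    have ha' : a • (v : ι → ℂ) = e x := congrArg Subtype.val ha
    simp only [LinearMap.comp_apply, LinearMap.smul_apply, ← he]
    rw [← ha', map_smul, map_smul, ← hc', smul_comm]
  have h2 : (P * X * P).trace = (X * P).trace := by
    rw [Matrix.trace_mul_cycle, hP, Matrix.trace_mul_comm]
  rw [hPXP]
  rw [hPXP, Matrix.trace_smul, htr, smul_eq_mul, mul_one] at h2
  rw [h2]

/-- The Frobenius–Schur trichotomy. -/
theorem nu_irr (χ : Cfsg.IrrCharacter G) :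
    ((∀ g : G, conj ((χ : G → ℂ) g) = (χ : G → ℂ) g) ∧
        (nu (χ : G → ℂ) = 1 ∨ nu (χ : G → ℂ) = -1)) ∨
      ((∃ g : G, conj ((χ : G → ℂ) g) ≠ (χ : G → ℂ) g) ∧ nu (χ : G → ℂ) = 0) := by
  classical
  obtain ⟨n, ρ, hρ, hρc⟩ := χ.2
  have hN : (Nat.card G : ℂ) ≠ 0 := Nat.cast_ne_zero.2 Nat.card_pos.ne'
  set A : G → Matrix (Fin n) (Fin n) ℂ := fun g => LinearMap.toMatrix' (ρ g) with hA
  have hAmul : ∀ a b, A (a * b) = A a * A b := fun a b => by
    simp only [hA]
    rw [map_mul, Module.End.mul_eq_comp, LinearMap.toMatrix'_comp]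
  have hAtr : ∀ g, (A g).trace = (χ : G → ℂ) g := fun g => by
    rw [← hρc]
    exact (LinearMap.trace_eq_matrix_trace ℂ (Pi.basisFun ℂ (Fin n)) (ρ g)).symm
  set P : Matrix (Fin n × Fin n) (Fin n × Fin n) ℂ :=
    (Nat.card G : ℂ)⁻¹ • ∑ g : G, A g ⊗ₖ A g with hP
  have hfix : ∀ a : G, (A a ⊗ₖ A a) * P = P := fun a => by
    rw [hP, Matrix.mul_smul, Finset.mul_sum]
    congr 1
    refine Fintype.sum_bijective (fun g => a * g) (Group.mulLeft_bijective a) _ _ fun g => ?_
    rw [hAmul, Matrix.mul_kronecker_mul]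
  have hPP : P * P = P := by
    nth_rewrite 1 [hP]
    rw [Matrix.smul_mul, Finset.sum_mul]
    simp only [hfix, Finset.sum_const, Finset.card_univ, ← Nat.cast_smul_eq_nsmul ℂ, smul_smul]
    rw [Nat.card_eq_fintype_card, inv_mul_cancel₀ (by exact_mod_cast Fintype.card_ne_zero),
      one_smul]
  have hcomm : swapMatrix n * P = P * swapMatrix n := by
    rw [hP, Matrix.mul_smul, Matrix.smul_mul, Finset.mul_sum, Finset.sum_mul]
    simp only [swapMatrix_comm]
  have hnu : (swapMatrix n * P).trace = nu (χ : G → ℂ) := by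
    rw [hP, Matrix.mul_smul, Matrix.trace_smul, Finset.mul_sum, Matrix.trace_sum, nu, smul_eq_mul]
    simp only [trace_swapMatrix_mul, ← hAmul, hAtr]
  have hconjIrr : Cfsg.IsCharacter G (fun g => conj ((χ : G → ℂ) g)) :=
    CfsgLib.Characters.isCharacter_conj (CfsgLib.Characters.isCharacter_of_isIrr χ.2)
  have htr : P.trace = Cfsg.classInner (χ : G → ℂ) (fun g => conj ((χ : G → ℂ) g)) := by
    rw [hP, Matrix.trace_smul, Matrix.trace_sum, Cfsg.classInner, smul_eq_mul]
    simp only [Matrix.trace_kronecker, hAtr, starRingEnd_self_apply]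
  by_cases hreal : ∀ g : G, conj ((χ : G → ℂ) g) = (χ : G → ℂ) g
  · refine Or.inl ⟨hreal, ?_⟩
    have h1 : P.trace = 1 := by
      rw [htr, show (fun g => conj ((χ : G → ℂ) g)) = (χ : G → ℂ) from funext hreal,
        CfsgLib.Characters.classInner_isIrr_self χ.2]
    have hkey := mul_mul_eq_smul_of_trace_one hPP h1 (swapMatrix n)
    rw [hnu, ← hcomm, Matrix.mul_assoc, hPP] at hkey
    have h2 : (nu (χ : G → ℂ)) ^ 2 = 1 := by
      have h3 : swapMatrix n * (swapMatrix n * P) = P := by
        rw [← Matrix.mul_assoc, swapMatrix_mul_self, Matrix.one_mul]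
      rw [hkey, Matrix.mul_smul, hkey, smul_smul] at h3
      have h4 := congrArg Matrix.trace h3
      rw [Matrix.trace_smul, h1, smul_eq_mul, mul_one] at h4
      rw [sq, h4]
    exact sq_eq_one_iff.1 h2
  · push Not at hreal
    refine Or.inr ⟨hreal, ?_⟩
    have h0 : P.trace = 0 := by
      rw [htr, CfsgLib.Characters.classInner_isIrr_ne χ.2 ?_ ?_]
      · refine CfsgLib.Characters.isIrr_of_classInner_self hconjIrr ?_
        rw [CfsgLib.Characters.classInner_conj_conj, CfsgLib.Characters.classInner_isIrr_self χ.2,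
          map_one]
      · obtain ⟨g, hg⟩ := hreal
        exact fun h => hg (congrFun h g).symm
    have hz : P = 0 := by
      apply (Matrix.toLin' (R := ℂ) (n := Fin n × Fin n) (m := Fin n × Fin n)).injective
      rw [map_zero]
      refine LinearMap.IsIdempotentElem.eq_zero_of_trace_eq_zero ?_ ?_
      · show Matrix.toLin' P * Matrix.toLin' P = Matrix.toLin' P
        rw [Module.End.mul_eq_comp, ← Matrix.toLin'_mul, hPP]
      · rw [Matrix.trace_toLin'_eq, h0]
    rw [← hnu, hz, Matrix.mul_zero, Matrix.trace_zero]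

end CfsgLib.FSIndicator
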