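import Cfsg.Agent.SquareRoots.Basic
import Cfsg.Agent.Characters.Linear
import Mathlib.LinearAlgebra.Matrix.NonsingularInverse
import Mathlib.LinearAlgebra.Dimension.Finrank

/-!
# Characters of indicator `-1` meet every trivial character evenly

If a real irreducible character has Frobenius–Schur indicator `-1`, the trivial character occurs
an even number of times in its restriction to any subgroup, as the fixed space carries a
nondegenerate invariant alternating form.
-/

set_option autoImplicit false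
set_option linter.style.haveILetI false
set_option linter.unusedSectionVars false

namespace CfsgLib.Indicator

open Matrix
open scoped ComplexConjugate

universe u
variable {G : Type u} [Group G] [Fintype G] {n : ℕ}

/-- A real irreducible representation has an invariant bilinear form of parity the indicator. -/
theorem exists_form (ρ : Representation ℂ G (Fin n → ℂ)) [ρ.IsIrreducible]
    (hreal : (fun g => conj (ρ.character g)) = ρ.character) :
    ∃ J : Matrix (Fin n) (Fin n) ℂ, IsUnit J.det ∧
      Jᵀ = ((Nat.card G : ℂ)⁻¹ * ∑ g : G, ρ.character (g * g)) • J ∧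
      ∀ g, LinearMap.toMatrix' (ρ g) * J * (LinearMap.toMatrix' (ρ g))ᵀ = J := by
  classical
  letI := invertibleOfNonzero (CfsgLib.Characters.natCard_ne_zero (G := G))
  haveI : Invertible (Fintype.card G : ℂ) := by
    rw [Fintype.card_eq_nat_card]; infer_instance
  set P := (CfsgLib.SquareRoots.sqRep ρ).averageMap with hP
  have hproj := Representation.isProj_averageMap (ρ := CfsgLib.SquareRoots.sqRep ρ)
  have hPval : P = (Nat.card G : ℂ)⁻¹ • ∑ g : G, CfsgLib.SquareRoots.sqRep ρ g := by
    rw [hP, Representation.averageMap, GroupAlgebra.average, map_smul, map_sum, invOf_eq_inv,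
      Nat.card_eq_fintype_card]
    simp [Representation.asAlgebraHom]
  have hν : LinearMap.trace ℂ _ (CfsgLib.SquareRoots.transposeLin n ∘ₗ P) =
      (Nat.card G : ℂ)⁻¹ * ∑ g : G, ρ.character (g * g) := by
    rw [hPval, LinearMap.comp_smul, map_smul, smul_eq_mul, ← Module.End.mul_eq_comp,
      Finset.mul_sum, map_sum]
    simp only [Module.End.mul_eq_comp]
    simp only [CfsgLib.SquareRoots.trace_transpose_sqRep]
  have hrank : (Module.finrank ℂ (CfsgLib.SquareRoots.sqRep ρ).invariants : ℂ) = 1 := by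
    rw [← Representation.card_inv_mul_sum_char_eq_finrank,
      ← CfsgLib.Characters.classInner_isIrr_self (CfsgLib.Characters.isIrrCharacter_character ρ),
      Cfsg.classInner]
    simp only [CfsgLib.SquareRoots.char_sqRep]
    congr 1
    refine Finset.sum_congr rfl fun g _ => ?_
    conv_rhs => rw [show conj (ρ.character g) = ρ.character g from congrFun hreal g]
  rw [← Nat.cast_one, Nat.cast_inj] at hrank
  obtain ⟨⟨J, hJ⟩, hJ0, hJspan⟩ := finrank_eq_one_iff'.1 hrank
  have hinv : ∀ g, LinearMap.toMatrix' (ρ g) * J * (LinearMap.toMatrix' (ρ g))ᵀ = J := fun g => by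
    rw [← CfsgLib.SquareRoots.sqRep_apply]; exact hJ g
  have hJT : Jᵀ ∈ (CfsgLib.SquareRoots.sqRep ρ).invariants := by
    intro g
    have := congrArg Matrix.transpose (hJ g)
    rw [CfsgLib.SquareRoots.sqRep_apply, Matrix.transpose_mul, Matrix.transpose_mul,
      Matrix.transpose_transpose, ← Matrix.mul_assoc] at this
    rw [CfsgLib.SquareRoots.sqRep_apply]
    exact this
  obtain ⟨ε, hε⟩ := hJspan ⟨Jᵀ, hJT⟩
  have hεJ : ε • J = Jᵀ := congrArg Subtype.val hε
  have hJne : J ≠ 0 := fun h => hJ0 (Subtype.ext h)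
  have hcomp : CfsgLib.SquareRoots.transposeLin n ∘ₗ P = ε • P := by
    refine LinearMap.ext fun E => ?_
    obtain ⟨c, hc⟩ := hJspan ⟨P E, hproj.map_mem E⟩
    have hc' : c • J = P E := congrArg Subtype.val hc
    rw [LinearMap.comp_apply, CfsgLib.SquareRoots.transposeLin_apply, LinearMap.smul_apply, ← hc',
      Matrix.transpose_smul, ← hεJ, smul_comm]
  rw [hcomp, map_smul, hP, hproj.trace, hrank, Nat.cast_one, smul_eq_mul, mul_one] at hν
  refine ⟨J, ?_, by rw [← hν, hεJ], hinv⟩
  -- nondegenerate by irreducibility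
  haveI := CfsgLib.Characters.nontrivial_of_isIrreducible ρ
  let f := Matrix.mulVecLin J
  have hf : ∀ g v, v ∈ LinearMap.range f → ρ g v ∈ LinearMap.range f := by
    rintro g _ ⟨w, rfl⟩
    refine ⟨(LinearMap.toMatrix' (ρ g⁻¹))ᵀ.mulVec w, ?_⟩
    have h1 : LinearMap.toMatrix' (ρ g) * J = J * (LinearMap.toMatrix' (ρ g⁻¹))ᵀ := by
      have h2 : LinearMap.toMatrix' (ρ g⁻¹) * LinearMap.toMatrix' (ρ g) = 1 := by
        rw [← LinearMap.toMatrix'_mul, ← map_mul, inv_mul_cancel, map_one]
        exact LinearMap.toMatrix'_id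
      conv_rhs => rw [← hinv g]
      rw [Matrix.mul_assoc, ← Matrix.transpose_mul, h2, Matrix.transpose_one, Matrix.mul_one]
    show J.mulVec _ = ρ g (J.mulVec w)
    rw [Matrix.mulVec_mulVec, ← h1, ← Matrix.mulVec_mulVec, ← Matrix.toLin'_apply,
      Matrix.toLin'_toMatrix']
  have htop : LinearMap.range f = ⊤ := by
    rcases IsSimpleOrder.eq_bot_or_eq_top
        (⟨LinearMap.range f, fun g x hx => hf g x hx⟩ : Subrepresentation ρ) with h | h
    · refine absurd ?_ hJne
      have h' : LinearMap.range f = ⊥ := congrArg Subrepresentation.toSubmodule h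
      rw [LinearMap.range_eq_bot] at h'
      have h'' := congrArg LinearMap.toMatrix' h'
      rwa [show f = Matrix.toLin' J from rfl, LinearMap.toMatrix'_toLin', map_zero] at h''
    · exact congrArg Subrepresentation.toSubmodule h
  rw [← Matrix.isUnit_iff_isUnit_det]
  exact Matrix.mulVec_surjective_iff_isUnit.1 (LinearMap.range_eq_top.1 htop)

/-- A character of indicator `-1` contains the trivial character of a subgroup an even number of
times. -/
theorem even_classInner_one {χ : G → ℂ} (hχ : Cfsg.IsIrrCharacter G χ)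
    (hν : (Nat.card G : ℂ)⁻¹ * ∑ g : G, χ (g * g) = -1) (H : Subgroup G) [Fintype H] :
    ∃ k : ℕ, Cfsg.classInner (fun h : H => χ h) (fun _ => (1 : ℂ)) = ((2 * k : ℕ) : ℂ) := by
  classical
  obtain ⟨n, ρ, hρ, rfl⟩ := hχ
  have hreal : (fun g => conj (ρ.character g)) = ρ.character := by
    by_contra hne
    rw [(CfsgLib.SquareRoots.indicator_cases_aux ρ).1 hne] at hν
    norm_num at hν
  obtain ⟨J, hJdet, hJT, hinv⟩ := exists_form ρ hreal
  rw [hν, neg_one_smul] at hJT
  let A : G → Matrix (Fin n) (Fin n) ℂ := fun g => LinearMap.toMatrix' (ρ g)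
  have hA : ∀ a b, A (a * b) = A a * A b := fun a b => by
    show LinearMap.toMatrix' (ρ (a * b)) = _
    rw [map_mul, LinearMap.toMatrix'_mul]
  have hA1 : A 1 = 1 := by
    show LinearMap.toMatrix' (ρ 1) = 1
    rw [map_one]; exact LinearMap.toMatrix'_id
  set E : Matrix (Fin n) (Fin n) ℂ := (Nat.card H : ℂ)⁻¹ • ∑ h : H, A h with hE
  have hH0 : (Nat.card H : ℂ) ≠ 0 := Nat.cast_ne_zero.2 Nat.card_pos.ne'
  have habs : ∀ h : H, A h * E = E := fun h => by
    rw [hE, Matrix.mul_smul, Finset.mul_sum]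
    congr 1
    refine Fintype.sum_bijective (fun x => h * x) (Group.mulLeft_bijective h) _ _ fun x => ?_
    rw [Subgroup.coe_mul, hA]
  have hEE : E * E = E := by
    nth_rewrite 1 [hE]
    rw [Matrix.smul_mul, Finset.sum_mul, Finset.sum_congr rfl fun h _ => habs h, Finset.sum_const,
      Finset.card_univ, ← Nat.card_eq_fintype_card, ← Nat.cast_smul_eq_nsmul ℂ, smul_smul,
      inv_mul_cancel₀ hH0, one_smul]
  have hEJ : E * J = J * Eᵀ := by
    rw [hE, Matrix.smul_mul, Matrix.transpose_smul, Matrix.mul_smul, Finset.sum_mul,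
      Matrix.transpose_sum, Finset.mul_sum]
    congr 1
    refine Fintype.sum_bijective (fun x => x⁻¹) (Equiv.inv H).bijective _ _ fun x => ?_
    have h2 : A (x : G)⁻¹ * A x = 1 := by rw [← hA, inv_mul_cancel, hA1]
    show A x * J = J * (A ((x⁻¹ : H) : G))ᵀ
    rw [Subgroup.coe_inv]
    conv_rhs => rw [← hinv (x : G)]
    show _ = A x * J * (A x)ᵀ * (A (x : G)⁻¹)ᵀ
    rw [Matrix.mul_assoc (A x * J), ← Matrix.transpose_mul, h2, Matrix.transpose_one, Matrix.mul_one]
  -- factor the projection through its range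
  let e := Matrix.toLin' E
  let W := LinearMap.range e
  set m := Module.finrank ℂ W with hm
  let φ : W ≃ₗ[ℂ] (Fin m → ℂ) := (Module.finBasis ℂ W).equivFun
  let b : (Fin m → ℂ) →ₗ[ℂ] (Fin n → ℂ) := W.subtype ∘ₗ φ.symm.toLinearMap
  let c : (Fin n → ℂ) →ₗ[ℂ] (Fin m → ℂ) := φ.toLinearMap ∘ₗ e.rangeRestrict
  let B := LinearMap.toMatrix' b
  let C := LinearMap.toMatrix' c
  have hee : ∀ x, e (e x) = e x := fun x => by
    show Matrix.toLin' E (Matrix.toLin' E x) = Matrix.toLin' E x
    rw [← LinearMap.comp_apply, ← Matrix.toLin'_mul, hEE]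
  have hBC : B * C = E := by
    show LinearMap.toMatrix' b * LinearMap.toMatrix' c = E
    rw [← LinearMap.toMatrix'_comp]
    have : b ∘ₗ c = e := LinearMap.ext fun x => by simp [b, c]
    rw [this]; exact LinearMap.toMatrix'_toLin' E
  have hCB : C * B = 1 := by
    show LinearMap.toMatrix' c * LinearMap.toMatrix' b = 1
    rw [← LinearMap.toMatrix'_comp]
    have : c ∘ₗ b = LinearMap.id := LinearMap.ext fun x => by
      obtain ⟨w, rfl⟩ := φ.surjective x
      obtain ⟨w, hw⟩ := w
      obtain ⟨y, rfl⟩ := hw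
      simp only [b, c, LinearMap.comp_apply, LinearEquiv.coe_coe, LinearEquiv.symm_apply_apply,
        LinearMap.id_apply]
      exact congrArg φ (Subtype.ext (hee y))
    rw [this]; exact LinearMap.toMatrix'_id
  let K := C * J * Cᵀ
  have hKinv : K * (Bᵀ * J⁻¹ * B) = 1 := by
    show C * J * Cᵀ * (Bᵀ * J⁻¹ * B) = 1
    calc C * J * Cᵀ * (Bᵀ * J⁻¹ * B) = C * (J * (Cᵀ * Bᵀ)) * J⁻¹ * B := by
          simp only [Matrix.mul_assoc]
      _ = C * (E * J) * J⁻¹ * B := by rw [← Matrix.transpose_mul, hBC, hEJ]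
      _ = C * E * (J * J⁻¹) * B := by simp only [Matrix.mul_assoc]
      _ = (C * B) * (C * B) := by
          rw [Matrix.mul_nonsing_inv J hJdet, Matrix.mul_one, ← hBC]; simp only [Matrix.mul_assoc]
      _ = 1 := by rw [hCB, Matrix.one_mul]
  have hdet : K.det ≠ 0 := fun h0 => by
    have := congrArg Matrix.det hKinv
    rw [Matrix.det_mul, h0, zero_mul, Matrix.det_one] at this
    exact zero_ne_one this
  have hKT : Kᵀ = -K := by
    show (C * J * Cᵀ)ᵀ = -(C * J * Cᵀ)
    rw [Matrix.transpose_mul, Matrix.transpose_mul, Matrix.transpose_transpose, hJT,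
      Matrix.neg_mul, Matrix.mul_neg, Matrix.mul_assoc]
  have hpar := congrArg Matrix.det hKT
  rw [Matrix.det_transpose, Matrix.det_neg, Fintype.card_fin] at hpar
  obtain ⟨k, hk⟩ : Even m := by
    rcases Nat.even_or_odd m with h | h
    · exact h
    · rw [h.neg_one_pow, neg_one_mul, eq_neg_iff_add_eq_zero, ← two_mul, mul_eq_zero] at hpar
      exact absurd (hpar.resolve_left two_ne_zero) hdet
  refine ⟨k, ?_⟩
  have htr : E.trace = (m : ℂ) := by
    rw [← hBC, Matrix.trace_mul_comm, hCB, Matrix.trace_one, Fintype.card_fin]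
  rw [two_mul, ← hk, ← htr, Cfsg.classInner, hE, Matrix.trace_smul, Matrix.trace_sum, smul_eq_mul]
  congr 1
  refine Finset.sum_congr rfl fun h _ => ?_
  rw [map_one, mul_one, CfsgLib.SquareRoots.char_eq_trace]
  rfl

end CfsgLib.Indicator
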